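import Groth.Agent.Lib.UnifBound18.Devissage
import Groth.Agent.S3387
import Groth.Agent.Lib.ProjSpace.Basic

/-!
# A uniform bound on the cohomology of twists on all fibres
-/

set_option autoImplicit false
set_option linter.style.haveILetI false
set_option linter.unusedSectionVars false
set_option maxHeartbeats 1000000
set_option backward.isDefEq.respectTransparency false
set_option backward.isDefEq.respectTransparency.types false

universe u

open CategoryTheory CategoryTheory.Limits AlgebraicGeometry TopologicalSpace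

noncomputable section

namespace Groth.Agent.UnifBound18

open Groth.Agent CohFound

attribute [local instance] fibOver fibProper

theorem fiberRank_iso {X T : Scheme.{u}} (f : X ⟶ T) [IsProper f] [IsLocallyNoetherian T] {G G' : X.Modules}
    (e : G ≅ G') (i : ℕ) (t : T) : CohIII.fiberRank f G i t = CohIII.fiberRank f G' i t :=
  (CBC10.hmapLinEquiv (T.residueField t) ((Scheme.Modules.pullback (f.fiberι t)).mapIso e) i).finrank_eq

variable {X T : Scheme.{u}} [IsNoetherian T] (f : X ⟶ T) [IsProper f] (F L : X.Modules)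

/-- The uniform bound on a set of points. -/
def UB (S : Set T) : Prop :=
  ∃ C : ℕ, ∀ t ∈ S, ∀ e : ℕ, topologicalKrullDim (f.fiber t) = (e : WithBot ℕ∞) → ∀ m : ℕ, 1 ≤ m → ∀ i : ℕ,
    CohIII.fiberRank f (CohB1.tensorMod F (CohB1.tensorPow L m)) i t ≤ C * m ^ e

variable {f F L}

theorem UB.empty : UB f F L ∅ := ⟨0, fun _ ht => ht.elim⟩

theorem UB.union {S S' : Set T} (h : UB f F L S) (h' : UB f F L S') : UB f F L (S ∪ S') := by
  obtain ⟨C, hC⟩ := h
  obtain ⟨C', hC'⟩ := h'
  refine ⟨max C C', fun t ht e he m hm i => ?_⟩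
  rcases ht with ht | ht
  · exact (hC t ht e he m hm i).trans (Nat.mul_le_mul_right _ (le_max_left _ _))
  · exact (hC' t ht e he m hm i).trans (Nat.mul_le_mul_right _ (le_max_right _ _))

theorem UB.mono {S S' : Set T} (h : UB f F L S') (hS : S ⊆ S') : UB f F L S :=
  ⟨h.choose, fun t ht => h.choose_spec t (hS ht)⟩

/-- Most of an irreducible closed subset is bounded. -/
theorem exists_open_UB (hF : Coh.IsCoh F) (hL : PicF.IsInvertible L) (η : T) :
    ∃ O : T.Opens, η ∈ O ∧ UB f F L (closure {η} ∩ O) := by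
  haveI : IsLocallyNoetherian X := LocallyOfFiniteType.isLocallyNoetherian f
  haveI : CompactSpace X := QuasiCompact.compactSpace_of_compactSpace f
  haveI : IsNoetherian X := {}
  obtain ⟨Z, i, hi, hZ, hr, hgen, -⟩ := exists_integral_point η
  obtain ⟨V, hV, hηV, -⟩ := exists_isAffineOpen_mem_and_subset (X := T) (x := η) (U := ⊤) trivial
  have hgV : genericPoint Z ∈ i ⁻¹ᵁ V := by
    show i (genericPoint Z) ∈ V
    rw [hgen]; exact hηV
  let W : Z.Opens := i ⁻¹ᵁ V
  haveI : Nonempty W.toScheme := ⟨⟨genericPoint Z, hgV⟩⟩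
  haveI : IsAffine W.toScheme := hV.preimage i
  haveI : IsLocallyNoetherian Z := LocallyOfFiniteType.isLocallyNoetherian i
  let j : W.toScheme ⟶ T := W.ι ≫ i
  let g : pullback f j ⟶ X := pullback.fst f j
  let f'' : pullback f j ⟶ W.toScheme := pullback.snd f j
  haveI : IsLocallyNoetherian (pullback f j) := LocallyOfFiniteType.isLocallyNoetherian f''
  haveI : CompactSpace ↥(pullback f j) := QuasiCompact.compactSpace_of_compactSpace f''
  haveI : IsNoetherian (pullback f j) := {}
  have hsep : (pullback f j).IsSeparated := by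
    haveI : IsSeparated f'' := inferInstance
    exact Scheme.IsSeparated.mk (by rw [← terminal.comp_from f'']; infer_instance)
  have hj : j (genericPoint W.toScheme) = η := by
    have h1 : η ⤳ j (genericPoint W.toScheme) := specializes_iff_mem_closure.2 (hr.le ⟨_, rfl⟩)
    have h2 : j (genericPoint W.toScheme) ⤳ η := by
      have := (genericPoint_specializes (α := ↥W.toScheme) ⟨genericPoint Z, hgV⟩).map j.continuous
      rwa [show j (⟨genericPoint Z, hgV⟩ : W.toScheme) = η from hgen] at this
    exact (h2.antisymm h1).eq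
  -- the dimension of the generic fibre
  haveI : IsProper (f.fiber η ↘ Spec (CommRingCat.of (T.residueField η))) := fibProper f η
  obtain ⟨d, hd, hd'⟩ : ∃ d : ℕ, topologicalKrullDim (f.fiber η) ≤ (d : WithBot ℕ∞) ∧
      (d = 0 ∨ (d : WithBot ℕ∞) ≤ topologicalKrullDim (f.fiber η)) := by
    classical
    have hex := Snapper.exists_dim_le (T.residueField η) (f.fiber η)
    refine ⟨Nat.find hex, Nat.find_spec hex, ?_⟩
    rcases h : Nat.find hex with _ | n
    · exact Or.inl rfl
    · refine Or.inr (le_of_not_gt fun hlt => ?_)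
      refine Nat.find_min hex (m := n) (by omega) ?_
      revert hlt
      generalize topologicalKrullDim (f.fiber η) = x
      induction x using WithBot.recBotCoe with
      | bot => exact fun _ => bot_le
      | coe y =>
        cases y using ENat.recTopCoe with
        | top => intro h'; simp at h'
        | coe k =>
          intro h'
          norm_cast at h' ⊢
          omega
  have hdim : topologicalKrullDim (f''.fiber (genericPoint W.toScheme)) ≤ (d : WithBot ℕ∞) := by
    let φ : f''.fiber (genericPoint W.toScheme) → (f ⁻¹' {η} : Set X) := fun z =>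
      ⟨(f''.fiberι _ ≫ g) z, by
        show f ((f''.fiberι _ ≫ g) z) = η
        rw [← Scheme.Hom.comp_apply, Category.assoc, show g ≫ f = f'' ≫ j from pullback.condition, ← Category.assoc,
          show f''.fiberι (genericPoint W.toScheme) ≫ f'' = f''.fiberToSpecResidueField _ ≫ W.toScheme.fromSpecResidueField _
            from pullback.condition, Category.assoc]
        simp only [Scheme.Hom.comp_apply, Scheme.fromSpecResidueField_apply]
        exact hj⟩
    have hφ : Topology.IsInducing φ := (f''.fiberι _ ≫ g).isEmbedding.isInducing.codRestrict _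
    exact (hφ.topologicalKrullDim_le.trans (f.fiberHomeo η).symm.isInducing.topologicalKrullDim_le).trans hd
  have hF'' := M1.isCoh_pullback g hF
  obtain ⟨U, hU, C, hC⟩ := bd f'' hsep (PicLoc.isInvertible_pullback g hL) d ((Scheme.Modules.pullback g).obj F) hF''
    ((Topology.IsInducing.subtypeVal.topologicalKrullDim_le).trans hdim)
  -- spread out
  obtain ⟨O, hO, hOU⟩ := i.isClosedEmbedding.isInducing.isOpen_iff.1 (W.ι ''ᵁ U).2
  refine ⟨⟨O, hO⟩, ?_, C * 2 ^ d, fun t ht e he m hm p => ?_⟩
  · have : W.ι (genericPoint W.toScheme) ∈ i ⁻¹' O := by rw [hOU]; exact ⟨_, hU, rfl⟩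
    show η ∈ O
    rw [← hj]; exact this
  obtain ⟨z, rfl⟩ : t ∈ Set.range i := hr.ge ht.1
  obtain ⟨s, hs, rfl⟩ : z ∈ W.ι '' (U : Set W.toScheme) := hOU.le ht.2
  have hde : d ≤ e := by
    rcases hd' with rfl | hd'
    · exact Nat.zero_le _
    have hcl := (S3387.result f f.isClosedMap d).closure_subset_iff.2 (Set.singleton_subset_iff.2 hd') ht.1
    rw [Set.mem_setOf_eq, he] at hcl
    exact_mod_cast hcl
  have hrk : CohIII.fiberRank f (CohB1.tensorMod F (CohB1.tensorPow L m)) p (i (W.ι s)) ≤ C * (m + 1) ^ d := by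
    have hFP : CohB1.IsFP (CohB1.tensorMod F (CohB1.tensorPow L m)) := (M1.isCoh_iff_isFP _).1
      (CurveCoh17.isCoh_tensor hF (Snapper.isCoh_of_isInvertible (M2.isInvertible_tensorPow hL m)))
    rw [show i (W.ι s) = j s from rfl,
      ← CMReg18.finrank_fiberH_baseChange (IsPullback.of_hasPullback f j) hFP s p,
      fiberRank_iso f'' (M2.pullTensorIso g F _ ≪≫ M2.tensorIso (Iso.refl _) (M2.pullTensorPowIso g L m)) p s,
      ← rk_eq_fiberRank]
    exact hC s hs m p
  calc _ ≤ C * (m + 1) ^ d := hrk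
    _ ≤ C * (2 * m) ^ d := Nat.mul_le_mul_left _ (Nat.pow_le_pow_left (by omega) d)
    _ = C * 2 ^ d * m ^ d := by rw [mul_pow, mul_assoc]
    _ ≤ C * 2 ^ d * m ^ e := Nat.mul_le_mul_left _ (Nat.pow_le_pow_right hm hde)

theorem UB.all (hF : Coh.IsCoh F) (hL : PicF.IsInvertible L) : UB f F L Set.univ := by
  suffices ∀ Y : Closeds T, UB f F L Y from this ⊤
  intro Y
  induction Y using WellFoundedLT.induction with
  | ind Y IH =>
  rcases eq_or_ne (Y : Set T) ∅ with h | h
  · rw [h]; exact UB.empty
  by_cases hirr : IsPreirreducible (Y : Set T)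
  · obtain ⟨η, hη⟩ := QuasiSober.sober (⟨Set.nonempty_iff_ne_empty.2 h, hirr⟩ : IsIrreducible (Y : Set T)) Y.isClosed
    obtain ⟨O, hηO, hO⟩ := exists_open_UB (f := f) hF hL η
    rw [hη.def] at hO
    refine (hO.union (IH ⟨(Y : Set T) \ O, Y.isClosed.sdiff O.isOpen⟩ ?_)).mono fun t ht => ?_
    · exact SetLike.coe_ssubset_coe.1 ⟨Set.sdiff_subset, fun hs => (hs hη.mem).2 hηO⟩
    · by_cases h' : t ∈ O
      · exact Or.inl ⟨ht, h'⟩
      · exact Or.inr ⟨ht, h'⟩
  · rw [isPreirreducible_iff_isClosed_union_isClosed] at hirr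
    push Not at hirr
    obtain ⟨A, B, hA, hB, hAB, hYA, hYB⟩ := hirr
    refine ((IH ⟨(Y : Set T) ∩ A, Y.isClosed.inter hA⟩ ?_).union (IH ⟨(Y : Set T) ∩ B, Y.isClosed.inter hB⟩ ?_)).mono
      fun t ht => (hAB ht).imp (fun h => ⟨ht, h⟩) (fun h => ⟨ht, h⟩)
    · exact SetLike.coe_ssubset_coe.1 ⟨Set.inter_subset_left, fun hs => hYA fun t ht => (hs ht).2⟩
    · exact SetLike.coe_ssubset_coe.1 ⟨Set.inter_subset_left, fun hs => hYB fun t ht => (hs ht).2⟩

end Groth.Agent.UnifBound18
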