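import Groth.Agent.Lib.UnifBound18.Basic
import Groth.Agent.Lib.CBC10.Near
import Groth.Agent.Lib.CMReg18.PointBC
import Groth.Agent.Lib.FibFlat5.Loc
import Groth.Agent.Lib.QuasiFlat.FlatOver

/-!
# A uniform bound for a single module
-/

set_option autoImplicit false
set_option linter.style.haveILetI false
set_option linter.unusedSectionVars false
set_option maxHeartbeats 1000000
set_option backward.isDefEq.respectTransparency false
set_option backward.isDefEq.respectTransparency.types false

universe u

open CategoryTheory CategoryTheory.Limits AlgebraicGeometry TopologicalSpace TensorProduct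

noncomputable section

namespace Groth.Agent.UnifBound18

open Groth.Agent CohFound

/-- A finite complex bounds the homology of its fibres. -/
theorem exists_dRank_le {A : Type u} [CommRing A] (P : ChainComplex (ModuleCat.{u} A) ℤ)
    [∀ i, Module.Finite A (P.X i)] (hb : ∃ i₀ : ℤ, ∀ i < i₀, IsZero (P.X i)) :
    ∃ C : ℕ, ∀ (p : ℕ) (x : PrimeSpectrum A), CohIII.dRank P (-(p : ℤ)) x ≤ C := by
  classical
  obtain ⟨i₀, hi₀⟩ := hb
  choose s hs using fun i => (Module.Finite.fg_top (R := A) (M := P.X i))
  refine ⟨(Finset.range ((-i₀).toNat + 1)).sup fun p => (s (-(p : ℤ))).card, fun p x => ?_⟩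
  let K := x.asIdeal.ResidueField
  let Q := CohIII.bcCx (algebraMap A K) P
  let i : ℤ := -(p : ℤ)
  have hfin : Module.Finite K (Q.X i) := Module.Finite.equiv (FlatCxLib.extEquiv K (P.X i)).symm
  have hle : Module.finrank K (Q.homology i) ≤ Module.finrank K (Q.X i) := by
    haveI := hfin
    haveI : Module.Finite K (Q.cycles i) :=
      Module.Finite.of_injective (Q.iCycles i).hom ((ModuleCat.mono_iff_injective _).1 inferInstance)
    exact ((Q.homologyπ i).hom.finrank_le_finrank_of_surjective ((ModuleCat.epi_iff_surjective _).1 inferInstance)).trans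
      (LinearMap.finrank_le_finrank_of_injective (f := (Q.iCycles i).hom) ((ModuleCat.mono_iff_injective _).1 inferInstance))
  refine hle.trans ?_
  refine le_of_eq_of_le (FlatCxLib.extEquiv K (P.X i)).finrank_eq ?_
  by_cases hp : p < (-i₀).toNat + 1
  · refine le_trans ?_ (Finset.le_sup (f := fun p : ℕ => (s (-(p : ℤ))).card) (Finset.mem_range.2 hp))
    let l : (↥(s i) → A) →ₗ[A] P.X i := Fintype.linearCombination A (fun y => (y : P.X i))
    have hl : Function.Surjective l := by
      rw [← LinearMap.range_eq_top, Fintype.range_linearCombination, Subtype.range_coe_subtype]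
      exact hs i
    haveI : Nontrivial A := (algebraMap A K).domain_nontrivial
    have h1 := LinearMap.finrank_le_finrank_of_surjective (f := l.baseChange K) (by
      intro y
      obtain ⟨z, hz⟩ := LinearMap.lTensor_surjective K hl y
      exact ⟨z, hz⟩)
    exact h1.trans_eq (by rw [Module.finrank_baseChange, Module.finrank_fintype_fun_eq_card, Fintype.card_coe])
  · have hz := hi₀ i (by omega)
    haveI : Subsingleton (P.X i) := ModuleCat.subsingleton_of_isZero hz
    exact (Module.finrank_zero_of_subsingleton).trans_le (Nat.zero_le _)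

variable {X T : Scheme.{u}} (f : X ⟶ T) [IsProper f] [IsLocallyNoetherian T] [IsIntegral T]

/-- The cohomology of the fibres of one module is bounded on a nonempty open. -/
theorem exists_fiberRank_le {F : X.Modules} (hF : Coh.IsCoh F) :
    ∃ U : T.Opens, genericPoint T ∈ U ∧ ∃ C : ℕ, ∀ t ∈ U, ∀ i : ℕ, CohIII.fiberRank f F i t ≤ C := by
  haveI : Coh.IsQCoh F := hF.1
  haveI : IsLocallyNoetherian X := LocallyOfFiniteType.isLocallyNoetherian f
  obtain ⟨U, hU, hflat⟩ := FlatH4.exists_open_isFlatOverAt f F (fun W hW => M1.finite_sections hF.1 hF.2 hW)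
  obtain ⟨V, hV, hηV, hVU⟩ := exists_isAffineOpen_mem_and_subset (genericPoint_mem hU)
  let F' := (Scheme.Modules.pullback (f ⁻¹ᵁ V).ι).obj F
  haveI : Coh.IsQCoh F' := M1.isQCoh_pullback _ hF.1
  have hfl : FlatMod.IsFlatOver (f ∣_ V) F' := by
    intro x
    refine (FibFlat5.isFlatOverAt_comp_mono_iff (f ∣_ V) V.ι F' x).1 ?_
    rw [morphismRestrict_ι]
    exact (QF.isFlatOverAt_pullback_iff (f ⁻¹ᵁ V).ι f F x).2 (hflat _ (hVU x.2))
  have hF' : Coh.IsCoh F' := M1.isCoh_pullback _ hF
  haveI : IsLocallyNoetherian V.toScheme := inferInstance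
  haveI : IsAffine V.toScheme := hV
  obtain ⟨P, h1, -, h3, -, hP⟩ := CBC10.exists_complexOn (f := f ∣_ V) hF' hfl (isAffineOpen_top V.toScheme)
  haveI := h1
  obtain ⟨C, hC⟩ := exists_dRank_le P h3
  refine ⟨V, hηV, C, fun t ht i => ?_⟩
  have e := CMReg18.finrank_fiberH_baseChange (isPullback_morphismRestrict f V).flip
    ((M1.isCoh_iff_isFP F).1 hF) ⟨t, ht⟩ i
  rw [show t = V.ι ⟨t, ht⟩ from rfl, ← e, hP.fiberRank_eq (show (⟨t, ht⟩ : V.toScheme) ∈ (⊤ : V.toScheme.Opens) from trivial) hF'.1 i]
  exact hC i _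

end Groth.Agent.UnifBound18
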