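import Groth.Agent.Lib.UnifBound18.PullAt
import Groth.Agent.Lib.Growth13.Bound
import Groth.Agent.Lib.FlatH4.GenFlatScheme
import Groth.Agent.Lib.CBC10.Crit2
import Groth.Agent.Lib.TensorMod.PullTensor
import Groth.Agent.Lib.TensorMod.PullSupport

/-!
# Fibrewise cohomology of twists over a nonempty open of an integral base
-/

set_option autoImplicit false
set_option linter.style.haveILetI false
set_option linter.unusedSectionVars false
set_option maxHeartbeats 1000000
set_option backward.isDefEq.respectTransparency false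
set_option backward.isDefEq.respectTransparency.types false

universe u

open CategoryTheory CategoryTheory.Limits AlgebraicGeometry TopologicalSpace

noncomputable section

namespace Groth.Agent.UnifBound18

open Groth.Agent CohFound

variable {X T : Scheme.{u}} (f : X ⟶ T) [IsProper f] [IsLocallyNoetherian T]

local instance fibOver (t : T) : (f.fiber t).Over (Spec (CommRingCat.of (T.residueField t))) :=
  ⟨f.fiberToSpecResidueField t⟩

local instance fibProper (t : T) : IsProper (f.fiber t ↘ Spec (CommRingCat.of (T.residueField t))) :=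
  inferInstanceAs (IsProper (pullback.snd f (T.fromSpecResidueField t)))

/-- The restriction of a module to a fibre. -/
abbrev pb (G : X.Modules) (t : T) : (f.fiber t).Modules := (Scheme.Modules.pullback (f.fiberι t)).obj G

theorem isCoh_pb {G : X.Modules} (hG : Coh.IsCoh G) (t : T) : Coh.IsCoh (pb f G t) := M1.isCoh_pullback _ hG

theorem isInvertible_pb {M : X.Modules} (hM : PicF.IsInvertible M) (t : T) : PicF.IsInvertible (pb f M t) :=
  PicLoc.isInvertible_pullback _ hM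

/-- The cohomology of a twist on a fibre. -/
def rk (G M : X.Modules) (i : ℕ) (t : T) : ℕ :=
  Growth13.hdim (T.residueField t) (CohB1.tensorMod (pb f G t) (pb f M t)) i

theorem rk_eq_fiberRank (G M : X.Modules) (i : ℕ) (t : T) :
    rk f G M i t = CohIII.fiberRank f (CohB1.tensorMod G M) i t :=
  ((CBC10.hmapLinEquiv (T.residueField t) (M2.pullTensorIso (f.fiberι t) G M) i).finrank_eq).symm

theorem rk_iso {G G' : X.Modules} (e : G ≅ G') (M : X.Modules) (i : ℕ) (t : T) : rk f G M i t = rk f G' M i t :=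
  Growth13.hdim_iso _ (M2.tensorIso ((Scheme.Modules.pullback (f.fiberι t)).mapIso e) (Iso.refl _)) i

theorem rk_shift (G L : X.Modules) (m i : ℕ) (t : T) :
    rk f (CohB1.tensorMod G L) (CohB1.tensorPow L m) i t = rk f G (CohB1.tensorPow L (m + 1)) i t :=
  Growth13.hdim_iso _ (M2.tensorIso (M2.pullTensorIso _ G L) (Iso.refl _) ≪≫ M2.tensorAssoc _ _ _ ≪≫
    M2.tensorIso (Iso.refl _) (M2.tensorComm _ _ ≪≫ (M2.pullTensorIso _ (CohB1.tensorPow L m) L).symm)) i

variable [IsIntegral T]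

theorem genericPoint_mem {U : T.Opens} (h : (U : Set T).Nonempty) : genericPoint T ∈ U :=
  (genericPoint_spec T).mem_open_set_iff U.2 |>.2 (by simpa using h)

/-- Inequalities from a short exact sequence, on a nonempty open of the base. -/
theorem exists_ses_le {S : ShortComplex X.Modules} (hS : S.ShortExact) (h1 : Coh.IsCoh S.X₁)
    (h2 : Coh.IsCoh S.X₂) (h3 : Coh.IsCoh S.X₃) :
    ∃ U : T.Opens, genericPoint T ∈ U ∧ ∀ t ∈ U, ∀ M : X.Modules, PicF.IsInvertible M → ∀ i : ℕ,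
      rk f S.X₂ M i t ≤ rk f S.X₁ M i t + rk f S.X₃ M i t ∧
      rk f S.X₃ M i t ≤ rk f S.X₂ M i t + rk f S.X₁ M (i + 1) t ∧
      rk f S.X₁ M i t ≤ rk f S.X₂ M i t + rk f S.X₃ M (i - 1) t := by
  haveI : Coh.IsQCoh S.X₃ := h3.1
  obtain ⟨U, hU, hflat⟩ := FlatH4.exists_open_isFlatOverAt f S.X₃ (fun W hW => M1.finite_sections h3.1 h3.2 hW)
  refine ⟨U, genericPoint_mem hU, fun t ht M hM i => ?_⟩
  have hSt : (S.map (Scheme.Modules.pullback (f.fiberι t))).ShortExact := by
    refine shortExact_pullback_flatAt (IsPullback.of_hasPullback f (T.fromSpecResidueField t)) hS fun z => hflat _ ?_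
    show f (f.fiberι t z) ∈ U
    rw [← Scheme.Hom.comp_apply, show f.fiberι t ≫ f = f.fiberToSpecResidueField t ≫ T.fromSpecResidueField t from
      pullback.condition, Scheme.Hom.comp_apply, Scheme.fromSpecResidueField_apply]
    exact ht
  have a1 := isCoh_pb f h1 t
  have a2 := isCoh_pb f h2 t
  have a3 := isCoh_pb f h3 t
  have hT := isInvertible_pb f hM t
  exact ⟨Growth13.hdim_mid_tensor_le hSt a1 a2 a3 hT i, Growth13.hdim_right_tensor_le hSt a1 a2 a3 hT i,
    Growth13.hdim_left_tensor_le hSt a1 a2 a3 hT i⟩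

/-- The bound on a nonempty open. -/
def Bd (L : X.Modules) (d : ℕ) (G : X.Modules) : Prop :=
  ∃ U : T.Opens, genericPoint T ∈ U ∧ ∃ C : ℕ, ∀ t ∈ U, ∀ m i : ℕ,
    rk f G (CohB1.tensorPow L m) i t ≤ C * (m + 1) ^ d

variable {L : X.Modules}

theorem Bd.of_iso {d : ℕ} {G G' : X.Modules} (e : G ≅ G') (h : Bd f L d G) : Bd f L d G' := by
  obtain ⟨U, hU, C, hC⟩ := h
  exact ⟨U, hU, C, fun t ht m i => (rk_iso f e _ i t).symm.trans_le (hC t ht m i)⟩

/-- Over an open missed by the support nothing is left. -/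
theorem exists_open_rk_eq_zero {G : X.Modules} (hG : Coh.IsCoh G)
    (h : ∀ x ∈ CohB1.support G, f x ≠ genericPoint T) :
    ∃ U : T.Opens, genericPoint T ∈ U ∧ ∀ t ∈ U, ∀ (M : X.Modules) (i : ℕ), rk f G M i t = 0 := by
  refine ⟨⟨(f '' CohB1.support G)ᶜ, (f.isClosedMap _ (M1.isClosed_support hG.2)).isOpen_compl⟩, ?_,
    fun t ht M i => ?_⟩
  · rintro ⟨x, hx, hxe⟩
    exact h x hx hxe
  · refine Growth13.hdim_of_support_empty _ (Set.subset_empty_iff.1 ((Snapper.support_tensor_subset _ _).trans ?_)) i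
    rw [M2.support_pullback _ hG.1 hG.2]
    intro z hz
    refine ht ⟨f.fiberι t z, hz, ?_⟩
    rw [← Scheme.Hom.comp_apply, show f.fiberι t ≫ f = f.fiberToSpecResidueField t ≫ T.fromSpecResidueField t from
      pullback.condition, Scheme.Hom.comp_apply, Scheme.fromSpecResidueField_apply]

theorem twoOfThree_bd (hL : PicF.IsInvertible L) (d : ℕ) (Z₀ : Set X) : TwoOfThreeOn (Bd f L d) Z₀ where
  of_isZero M hM hz := by
    obtain ⟨U, hU, hU'⟩ := exists_open_rk_eq_zero f hM fun x hx =>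
      absurd (AddCommGrpCat.subsingleton_of_isZero ((M1.stalkAb x).map_isZero hz)) hx
    exact ⟨U, hU, 0, fun t ht m i => (hU' t ht _ i).trans_le (Nat.zero_le _)⟩
  mid S hS h1 h2 h3 _ p1 p3 := by
    obtain ⟨U1, g1, C1, c1⟩ := p1
    obtain ⟨U3, g3, C3, c3⟩ := p3
    obtain ⟨U, g, hle⟩ := exists_ses_le f hS h1 h2 h3
    exact ⟨U ⊓ (U1 ⊓ U3), ⟨g, g1, g3⟩, C1 + C3, fun t ht m i =>
      ((hle t ht.1 _ (M2.isInvertible_tensorPow hL m) i).1).trans
        ((add_le_add (c1 t ht.2.1 m i) (c3 t ht.2.2 m i)).trans_eq (add_mul _ _ _).symm)⟩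
  left S hS h1 h2 h3 _ p2 p3 := by
    obtain ⟨U2, g2, C2, c2⟩ := p2
    obtain ⟨U3, g3, C3, c3⟩ := p3
    obtain ⟨U, g, hle⟩ := exists_ses_le f hS h1 h2 h3
    exact ⟨U ⊓ (U2 ⊓ U3), ⟨g, g2, g3⟩, C2 + C3, fun t ht m i =>
      ((hle t ht.1 _ (M2.isInvertible_tensorPow hL m) i).2.2).trans
        ((add_le_add (c2 t ht.2.1 m i) (c3 t ht.2.2 m _)).trans_eq (add_mul _ _ _).symm)⟩
  right S hS h1 h2 h3 _ p1 p2 := by
    obtain ⟨U1, g1, C1, c1⟩ := p1
    obtain ⟨U2, g2, C2, c2⟩ := p2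
    obtain ⟨U, g, hle⟩ := exists_ses_le f hS h1 h2 h3
    exact ⟨U ⊓ (U1 ⊓ U2), ⟨g, g1, g2⟩, C2 + C1, fun t ht m i =>
      ((hle t ht.1 _ (M2.isInvertible_tensorPow hL m) i).2.1).trans
        ((add_le_add (c2 t ht.2.2 m i) (c1 t ht.2.1 m _)).trans_eq (add_mul _ _ _).symm)⟩

/-- A map with small kernel and cokernel changes little. -/
theorem exists_hom_le [IsNoetherian X] {W N : X.Modules} (φ : W ⟶ N) (hW : Coh.IsCoh W) (hN : Coh.IsCoh N) :
    ∃ U : T.Opens, genericPoint T ∈ U ∧ ∀ t ∈ U, ∀ M : X.Modules, PicF.IsInvertible M → ∀ i : ℕ,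
      rk f W M i t ≤ rk f N M i t + (rk f (kernel φ) M i t + rk f (cokernel φ) M (i - 1) t) ∧
      rk f N M i t ≤ rk f W M i t + (rk f (kernel φ) M (i + 1) t + rk f (cokernel φ) M i t) := by
  have cK : Coh.IsCoh (kernel φ) := CurveCoh17.isCoh_kernel hW hN.1 φ
  have cC : Coh.IsCoh (cokernel φ) := M1.isCoh_cokernel hW.1 hN φ
  have cI : Coh.IsCoh (Abelian.image φ) := CurveCoh17.isCoh_kernel hN cC.1 _
  obtain ⟨U1, g1, h1⟩ := exists_ses_le f (CurveCoh17.kerSC_shortExact φ) cK hW cI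
  obtain ⟨U2, g2, h2⟩ := exists_ses_le f (CurveCoh17.cokerSC_shortExact φ) cI hN cC
  refine ⟨U1 ⊓ U2, ⟨g1, g2⟩, fun t ht M hM i => ?_⟩
  obtain ⟨a1, a4, -⟩ := h1 t ht.1 M hM i
  obtain ⟨a2, -, a3⟩ := h2 t ht.2 M hM i
  simp only [CurveCoh17.kerSC, CurveCoh17.cokerSC] at a1 a2 a3 a4
  constructor <;> omega

end Groth.Agent.UnifBound18
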