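import Groth.Agent.Lib.UnifBound18.Base

/-!
# Fibrewise growth is bounded by the dimension of the generic fibre of the support
-/

set_option autoImplicit false
set_option linter.style.haveILetI false
set_option linter.unusedSectionVars false
set_option maxHeartbeats 1000000
set_option backward.isDefEq.respectTransparency false
set_option backward.isDefEq.respectTransparency.types false

universe u

open CategoryTheory CategoryTheory.Limits AlgebraicGeometry TopologicalSpace

noncomputable section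

namespace Groth.Agent.UnifBound18

open Groth.Agent CohFound

attribute [local instance] fibOver fibProper

variable {X T : Scheme.{u}} (f : X ⟶ T) [IsProper f] [IsLocallyNoetherian T] [IsIntegral T]

/-- Growth from bounded differences. -/
theorem le_of_diff (g : ℕ → ℕ) {g₀ D e : ℕ} (h0 : g 0 ≤ g₀) (h : ∀ m, g (m + 1) ≤ g m + D * (m + 1) ^ e) :
    ∀ m, g m ≤ g₀ + D * m * (m + 1) ^ e
  | 0 => by simpa using h0
  | m + 1 => by
    have h1 := le_of_diff g h0 h m
    have h2 : D * (m + 1) * (m + 1 + 1) ^ e = D * m * (m + 1 + 1) ^ e + D * (m + 1 + 1) ^ e := by ring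
    have h3 : D * m * (m + 1) ^ e ≤ D * m * (m + 1 + 1) ^ e :=
      Nat.mul_le_mul_left _ (Nat.pow_le_pow_left (Nat.le_succ _) e)
    have h4 : D * (m + 1) ^ e ≤ D * (m + 1 + 1) ^ e :=
      Nat.mul_le_mul_left _ (Nat.pow_le_pow_left (Nat.le_succ _) e)
    have := h m
    omega

/-- The points of the generic fibre. -/
theorem exists_fiberι_eq (x : X) (hx : f x = genericPoint T) :
    ∃ z : f.fiber (genericPoint T), f.fiberι (genericPoint T) z = x := by
  have : x ∈ Set.range (f.fiberι (genericPoint T)) := by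
    rw [Scheme.Hom.range_fiberι]
    exact hx
  exact this

/-- The bound from the dimension of the support in the generic fibre. -/
theorem bd [IsNoetherian X] (hsep : X.IsSeparated) {L : X.Modules} (hL : PicF.IsInvertible L) :
    ∀ (d : ℕ) (G : X.Modules), Coh.IsCoh G →
      topologicalKrullDim (f.fiberι (genericPoint T) ⁻¹' CohB1.support G) ≤ (d : WithBot ℕ∞) → Bd f L d G := by
  intro d
  induction d using Nat.strong_induction_on with
  | _ d IH =>
  intro M hM hdim'
  refine (twoOfThree_bd f hL d (CohB1.support M)).holds (fun ζ hζ => ?_) hM subset_rfl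
  obtain ⟨Z, i, hi, hZ, hr, hζi, -⟩ := exists_integral_point ζ
  haveI : IsLocallyNoetherian Z := LocallyOfFiniteType.isLocallyNoetherian i
  subst hζi
  obtain ⟨g, hg, hgen, hkill⟩ := exists_cyclic_push_structureModule i
  let G := (Scheme.Modules.pushforward i).obj (Coh.structureModule Z)
  have hG : Coh.IsCoh G := isCoh_push_closedImm i (M1.isCoh_structureModule Z)
  have hGs : CohB1.support G ⊆ closure {i (genericPoint Z)} := (CohFound.support_push_subset i _).trans hr.le
  refine ⟨HasModel.ofCyclic (fun A B h p => Bd.of_iso f h.some p) G hG hGs g hg hgen hkill ?_⟩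
  by_cases hfζ : f (i (genericPoint Z)) = genericPoint T
  swap
  · obtain ⟨U, hU, hU'⟩ := exists_open_rk_eq_zero f hG fun x hx hxe => hfζ (by
      have h1 : f (i (genericPoint Z)) ⤳ f x := (specializes_iff_mem_closure.2 (hGs hx)).map f.continuous
      have h2 : genericPoint T ⤳ f (i (genericPoint Z)) :=
        specializes_iff_mem_closure.2 (by rw [(genericPoint_spec T).def]; trivial)
      exact ((h1.trans (hxe ▸ specializes_refl _)).antisymm h2).eq)
    exact ⟨U, hU, 0, fun t ht m j => (hU' t ht _ j).trans_le (Nat.zero_le _)⟩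
  obtain ⟨z, hz⟩ := exists_fiberι_eq f _ hfζ
  have hclz : closure ({z} : Set (f.fiber (genericPoint T))) =
      f.fiberι (genericPoint T) ⁻¹' closure {i (genericPoint Z)} := by
    rw [(f.fiberι (genericPoint T)).isEmbedding.isInducing.closure_eq_preimage_closure_image, Set.image_singleton, hz]
  have hdz : topologicalKrullDim (closure ({z} : Set (f.fiber (genericPoint T)))) ≤ (d : WithBot ℕ∞) :=
    Snapper.dim_le_of_subset (hclz.le.trans (Set.preimage_mono ((M1.isClosed_support hM.2).closure_subset_iff.2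
      (Set.singleton_subset_iff.2 hζ)))) hdim'
  -- modules supported away from the generic point of the component
  obtain ⟨e, he, hsmall⟩ : ∃ e : ℕ, (d = 0 ∨ d = e + 1) ∧ ∀ (K : X.Modules) (C : Set X), Coh.IsCoh K →
      IsClosed C → CohB1.support K ⊆ C → C ⊆ closure {i (genericPoint Z)} → i (genericPoint Z) ∉ C →
      ∃ V : T.Opens, genericPoint T ∈ V ∧ ∃ B : ℕ, (d = 0 → B = 0) ∧
        ∀ t ∈ V, ∀ m n : ℕ, rk f K (CohB1.tensorPow L m) n t ≤ B * (m + 1) ^ e := by
    have hpre : ∀ C : Set X, C ⊆ closure {i (genericPoint Z)} → i (genericPoint Z) ∉ C →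
        f.fiberι (genericPoint T) ⁻¹' C ⊆ closure {z} ∧ z ∉ f.fiberι (genericPoint T) ⁻¹' C :=
      fun C hCs hζC => ⟨(Set.preimage_mono hCs).trans hclz.ge, fun h => hζC (hz ▸ h)⟩
    rcases d with _ | d'
    · refine ⟨0, Or.inl rfl, fun K C hK hC hKC hCs hζC => ?_⟩
      have hempty := Snapper.eq_empty_of_notMem (hC.preimage (f.fiberι (genericPoint T)).continuous)
        (hpre C hCs hζC).1 (hpre C hCs hζC).2 (by simpa using hdz)
      obtain ⟨V, hV, hV'⟩ := exists_open_rk_eq_zero f hK fun x hx hxe => by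
        obtain ⟨w, rfl⟩ := exists_fiberι_eq f x hxe
        exact (Set.eq_empty_iff_forall_notMem.1 hempty) w (hKC hx)
      exact ⟨V, hV, 0, fun _ => rfl, fun t ht m n => (hV' t ht _ n).trans_le (Nat.zero_le _)⟩
    · refine ⟨d', Or.inr rfl, fun K C hK hC hKC hCs hζC => ?_⟩
      obtain ⟨V, hV, B, hB⟩ := IH d' (Nat.lt_succ_self _) K hK (Snapper.dim_le_of_subset (Set.preimage_mono hKC)
        (Snapper.dim_le_of_notMem (hC.preimage (f.fiberι (genericPoint T)).continuous)
          (hpre C hCs hζC).1 (hpre C hCs hζC).2 hdz))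
      exact ⟨V, hV, B, fun h => absurd h (Nat.succ_ne_zero _), fun t ht m n => hB t ht m n⟩
  have hG' : Coh.IsCoh (CohB1.tensorMod G L) := CurveCoh17.isCoh_tensor hG (Snapper.isCoh_of_isInvertible hL)
  obtain ⟨V, hζV, ⟨eV⟩⟩ := hL (i (genericPoint Z))
  obtain ⟨O, hO, hζO, hOV⟩ := exists_isAffineOpen_mem_and_subset (U := V) hζV
  obtain ⟨eO⟩ := M2.nonempty_trivial_mono hOV eV
  obtain ⟨W, φ, ψ, hW, k1, c1, k2, c2⟩ := Snapper.exists_zigzag hsep hG hG' hGs
    ((Snapper.support_tensor_subset G _).trans hGs) hO hζO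
    (M2.restrictTensorIso O.ι G L ≪≫ M2.tensorIso (Iso.refl _) eO ≪≫ M2.tensorRUnit _)
  have hC : IsClosed (closure {i (genericPoint Z)} \ (O : Set X)) := isClosed_closure.sdiff O.isOpen
  have small : ∀ K : X.Modules, Coh.IsCoh K → CohB1.support K ⊆ closure {i (genericPoint Z)} \ (O : Set X) →
      ∃ V : T.Opens, genericPoint T ∈ V ∧ ∃ B : ℕ, (d = 0 → B = 0) ∧
        ∀ t ∈ V, ∀ m n : ℕ, rk f K (CohB1.tensorPow L m) n t ≤ B * (m + 1) ^ e :=
    fun K hK hs => hsmall K _ hK hC hs Set.sdiff_subset fun h => h.2 hζO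
  obtain ⟨V1, v1, B1, z1, hB1⟩ := small _ (CurveCoh17.isCoh_kernel hW hG.1 φ) k1
  obtain ⟨V2, v2, B2, z2, hB2⟩ := small _ (M1.isCoh_cokernel hW.1 hG φ) c1
  obtain ⟨V3, v3, B3, z3, hB3⟩ := small _ (CurveCoh17.isCoh_kernel hW hG'.1 ψ) k2
  obtain ⟨V4, v4, B4, z4, hB4⟩ := small _ (M1.isCoh_cokernel hW.1 hG' ψ) c2
  obtain ⟨V5, v5, h5⟩ := exists_hom_le f φ hW hG
  obtain ⟨V6, v6, h6⟩ := exists_hom_le f ψ hW hG'
  obtain ⟨V7, v7, g₀, h7⟩ := exists_fiberRank_le f
    (CurveCoh17.isCoh_tensor hG (Snapper.isCoh_of_isInvertible (M2.isInvertible_tensorPow hL 0)))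
  refine ⟨V1 ⊓ V2 ⊓ V3 ⊓ V4 ⊓ V5 ⊓ V6 ⊓ V7, ⟨⟨⟨⟨⟨⟨v1, v2⟩, v3⟩, v4⟩, v5⟩, v6⟩, v7⟩,
    g₀ + (B1 + B2 + B3 + B4), ?_⟩
  rintro t ⟨⟨⟨⟨⟨⟨t1, t2⟩, t3⟩, t4⟩, t5⟩, t6⟩, t7⟩ m n
  have key := le_of_diff (fun q => rk f G (CohB1.tensorPow L q) n t) (g₀ := g₀) (D := B1 + B2 + B3 + B4) (e := e)
    ((rk_eq_fiberRank f G _ n t).trans_le (h7 t t7 n)) (fun q => by
      have hT := M2.isInvertible_tensorPow hL q
      have a1 := (h5 t t5 _ hT n).1
      have a2 := (h6 t t6 _ hT n).2
      rw [rk_shift] at a2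
      have b1 := hB1 t t1 q n
      have b2 := hB2 t t2 q (n - 1)
      have b3 := hB3 t t3 q (n + 1)
      have b4 := hB4 t t4 q n
      rw [add_mul, add_mul, add_mul]
      omega) m
  refine key.trans ?_
  rcases he with rfl | rfl
  · simp [z1 rfl, z2 rfl, z3 rfl, z4 rfl]
  · have h1 : g₀ ≤ g₀ * (m + 1) ^ (e + 1) := Nat.le_mul_of_pos_right _ (Nat.pow_pos (Nat.succ_pos _))
    have h2 : (B1 + B2 + B3 + B4) * m * (m + 1) ^ e ≤ (B1 + B2 + B3 + B4) * (m + 1) ^ (e + 1) := by
      rw [pow_succ', mul_assoc]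
      exact Nat.mul_le_mul_left _ (Nat.mul_le_mul_right _ (Nat.le_succ _))
    exact (add_le_add h1 h2).trans_eq (add_mul _ _ _).symm

end Groth.Agent.UnifBound18
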