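import Groth.Agent.Lib.Quot18.PullExact

/-!
# Base change of a short exact sequence whose cokernel is flat along the image
-/

set_option autoImplicit false
set_option backward.isDefEq.respectTransparency false
set_option backward.isDefEq.respectTransparency.types false
set_option linter.style.haveILetI false
set_option maxHeartbeats 3000000

universe u

open CategoryTheory CategoryTheory.Limits AlgebraicGeometry TensorProduct

namespace Groth.Agent.UnifBound18

open Groth.Agent Groth.Agent.Exact8 KFlat KFlat.Sch DBaseChange Groth.Agent.Quot18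

variable {X Y X' Y' : Scheme.{u}} {g : X' ⟶ X} {f' : X' ⟶ Y'} {f : X ⟶ Y} {h : Y' ⟶ Y}

/-- Base change of a short exact sequence with relatively flat cokernel. -/
theorem shortExact_pullback_flatAt (sq : IsPullback g f' f h) {S : ShortComplex X.Modules} (hS : S.ShortExact)
    (h₃ : ∀ x : X', FlatMod.IsFlatOverAt f S.X₃ (g x)) : (S.map (Scheme.Modules.pullback g)).ShortExact := by
  haveI := (Scheme.Modules.pullbackPushforwardAdjunction g).leftAdjoint_preservesColimits.{0, 0}
  haveI := hS.epi_g
  haveI : Epi ((Scheme.Modules.pullback g).map S.g) := inferInstance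
  haveI hm : Mono ((Scheme.Modules.pullback g).map S.f) := by
    refine (KFlat.Sch.mono_iff_stalk _).2 fun x => ?_
    obtain ⟨ρ, h1, h2, hρ⟩ := exists_rho sq x
    have hex : (S.map (stF (g x))).ShortExact := by
      haveI := hS.mono_f
      haveI : Epi ((stF (g x)).map S.g) := inferInstance
      haveI : Mono ((stF (g x)).map S.f) :=
        (ModuleCat.mono_iff_injective _).2 ((KFlat.Sch.mono_iff_stalk S.f).1 inferInstance (g x))
      exact ShortComplex.ShortExact.mk' ((exact_iff_stF _).1 hS.exact (g x)) (by assumption) (by assumption)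
    have h0 : Module.Flat _ ((ModuleCat.restrictScalars.{u} (f.stalkMap (g x)).hom).obj (S.map (stF (g x))).X₃) :=
      RelPCS8.StalkId.flat_of_iso ((ModuleCat.restrictScalars.{u} (f.stalkMap (g x)).hom).mapIso
        ((RelPCS8.TorTensor.stalkFunctorIso (g x)).app S.X₃)) (h₃ x)
    have hbc : Mono ((ModuleCat.extendScalars.{u, u, u} (g.stalkMap x).hom).map ((stF (g x)).map S.f)) :=
      mono_bc (baseMap sq x).hom (f.stalkMap (g x)).hom ρ hρ (g.stalkMap x).hom h2 (S.map (stF (g x))) hex h0
    have h3 : Mono ((Scheme.Modules.pullback g ⋙ stF x).map S.f) :=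
      ((MorphismProperty.monomorphisms _).arrow_mk_iso_iff
        (((Functor.mapArrowFunctor _ _).mapIso (pullStalkNatIso g x)).app (Arrow.mk S.f))).2
        hbc
    exact (ModuleCat.mono_iff_injective ((stF x).map ((Scheme.Modules.pullback g).map S.f))).1 h3
  refine ShortComplex.ShortExact.mk' ?_ hm (by assumption)
  haveI := hS.mono_f
  exact (hS.exact.map_of_epi_of_preservesCokernel (Scheme.Modules.pullback g) hS.epi_g inferInstance)

end Groth.Agent.UnifBound18
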